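import Groth.Agent.Lib.AffPart25.Perfect
import Groth.Agent.Lib.AffPart25.Smallest
import Groth.Agent.Lib.AffPart25.Largest
import Groth.Agent.Lib.GrpGen20.GeomRed

/-!
# The largest connected affine normal subgroup over an arbitrary field
-/

set_option autoImplicit false
set_option linter.style.haveILetI false
set_option backward.isDefEq.respectTransparency false
set_option backward.isDefEq.respectTransparency.types false
universe u

open CategoryTheory CategoryTheory.Limits MonoidalCategory CartesianMonoidalCategory MonObj AlgebraicGeometry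

noncomputable section

namespace Groth.Agent.SepAff15

section General

variable {k : Type u} [Field k]
variable {G Q N : Over (Spec (CommRingCat.of k))} [GrpObj G] [GrpObj Q] [GrpObj N]

/-- An open surjection with connected fibres onto a connected space has connected source. -/
theorem connectedSpace_of_fibres {A B : Type*} [TopologicalSpace A] [TopologicalSpace B] [ConnectedSpace B]
    (f : A → B) (ho : IsOpenMap f) (hs : Function.Surjective f) (hf : ∀ b, IsPreconnected (f ⁻¹' {b})) :
    ConnectedSpace A := by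
  haveI : Nonempty A := ⟨(hs (Classical.arbitrary B)).choose⟩
  refine { toPreconnectedSpace := preconnectedSpace_iff_clopen.mpr fun U hU => ?_, toNonempty := inferInstance }
  by_contra h
  rw [not_or] at h
  obtain ⟨a, ha⟩ := Set.nonempty_iff_ne_empty.mpr h.1
  obtain ⟨a', ha'⟩ := Set.nonempty_compl.mpr h.2
  have hcov : Set.univ ⊆ f '' U ∪ f '' Uᶜ := fun c _ => by
    obtain ⟨x, rfl⟩ := hs c
    rcases em (x ∈ U) with hx | hx
    · exact Or.inl ⟨x, hx, rfl⟩
    · exact Or.inr ⟨x, hx, rfl⟩
  obtain ⟨c, -, ⟨x, hx, hxc⟩, ⟨y, hy, hyc⟩⟩ := (ConnectedSpace.toPreconnectedSpace (α := B)).isPreconnected_univ _ _ (ho _ hU.2)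
    (ho _ hU.1.isOpen_compl) hcov ⟨f a, trivial, a, ha, rfl⟩ ⟨f a', trivial, a', ha', rfl⟩
  obtain ⟨z, -, hz, hz'⟩ := hf c U Uᶜ hU.2 hU.1.isOpen_compl (fun z _ => em (z ∈ U)) ⟨x, hxc, hx⟩ ⟨y, hyc, hy⟩
  exact hz' hz

section Kernel

variable [LocallyOfFiniteType Q.hom] [QuasiCompact G.hom] (i : N ⟶ G) (q : G ⟶ Q) [IsMonHom q] [Flat q.left]
  [Surjective q.left] (hker : AlgGrp.IsKernel i q)

include hker in
/-- A quotient map with smooth kernel is smooth. -/
theorem smooth_left [Smooth N.hom] : Smooth q.left := by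
  haveI : IsSeparated Q.hom := AbRigid.isSeparated_of_grpObj Q
  haveI : QuasiCompact (q.left ≫ Q.hom) := by rw [Over.w]; infer_instance
  haveI : QuasiCompact q.left := QuasiCompact.of_comp q.left Q.hom
  exact AbRigid.of_kernel q i hker @Smooth ‹_›

include hker in
/-- An extension of a smooth connected group by a smooth connected group is smooth and connected. -/
theorem smooth_connected [Smooth Q.hom] [Smooth N.hom] [ConnectedSpace N.left] [ConnectedSpace Q.left] :
    Smooth G.hom ∧ ConnectedSpace G.left := by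
  haveI := smooth_left i q hker
  refine ⟨by rw [← Over.w q]; infer_instance, ?_⟩
  haveI := AbRigid.geometricallyIrreducible_of_connected N
  haveI := CubeField.geometricallyConnected_of_irreducible N.hom
  refine connectedSpace_of_fibres q.left q.left.isOpenMap q.left.surjective fun a => ?_
  obtain ⟨g, rfl⟩ := q.left.surjective a
  haveI : GeometricallyConnected (fst G N).left :=
    inferInstanceAs (GeometricallyConnected (pullback.fst G.hom N.hom))
  have hconn := ((fst G N).left.isConnected_preimage_singleton g).isPreconnected.image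
    (fst G N * (snd G N ≫ i)).left ((fst G N * (snd G N ≫ i)).left.continuous.continuousOn)
  have hp : IsPullback (fst G N).left (fst G N * (snd G N ≫ i)).left q.left q.left :=
    (AbRigid.isPullback_kernelPair q i hker).map (Over.forget _)
  have heq : q.left ⁻¹' {q.left g} = (fst G N * (snd G N ≫ i)).left '' ((fst G N).left ⁻¹' {g}) := by
    ext g'
    constructor
    · intro hg'
      obtain ⟨z, hz1, hz2⟩ := Scheme.Pullback.exists_preimage_pullback (f := q.left) (g := q.left) g g'
        (Eq.symm hg')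
      refine ⟨hp.isoPullback.inv z, ?_, ?_⟩
      · show (fst G N).left _ = g
        rw [← Scheme.Hom.comp_apply, hp.isoPullback_inv_fst]
        exact hz1
      · rw [← Scheme.Hom.comp_apply, hp.isoPullback_inv_snd]
        exact hz2
    · rintro ⟨z, hz, rfl⟩
      have hw : (fst G N).left ≫ q.left = (fst G N * (snd G N ≫ i)).left ≫ q.left := hp.w
      have hw' := congrArg (fun m => m z) hw
      simp only [Scheme.Hom.comp_apply] at hw'
      show q.left _ = q.left g
      rw [← hw', show (fst G N).left z = g from hz]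
  rw [heq]
  exact hconn

include hker in
/-- A quotient map with affine kernel is affine. -/
theorem isAffineHom_left [QuasiCompact Q.hom] [LocallyOfFiniteType G.hom] [IsAffine N.left] : IsAffineHom q.left := by
  haveI : IsSeparated G.hom := AbRigid.isSeparated_of_grpObj G
  haveI : IsSeparated Q.hom := AbRigid.isSeparated_of_grpObj Q
  haveI : QuasiCompact (q.left ≫ Q.hom) := by rw [Over.w q]; infer_instance
  haveI : QuasiCompact q.left := QuasiCompact.of_comp q.left Q.hom
  haveI : QuasiSeparated (q.left ≫ Q.hom) := by rw [Over.w q]; infer_instance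
  haveI : QuasiSeparated q.left := QuasiSeparated.of_comp q.left Q.hom
  have hsq : IsPullback (fst G N * (snd G N ≫ i)).left (fst G N).left q.left q.left :=
    ((AbRigid.isPullback_kernelPair q i hker).map (Over.forget _)).flip
  haveI : IsAffineHom N.hom := inferInstance
  haveI : IsAffineHom (fst G N).left :=
    (MorphismProperty.pullback_fst (P := @IsAffineHom) G.hom N.hom inferInstance : IsAffineHom (pullback.fst G.hom N.hom))
  haveI : IsAffineHom (pullback.snd q.left q.left) := by
    rw [← hsq.isoPullback_inv_snd]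
    infer_instance
  exact FlatDesc26.isAffineHom_of_flat_cover q.left q.left

include hker in
/-- An extension of an affine group by an affine group is affine. -/
theorem isAffine_of_extension [LocallyOfFiniteType G.hom] [QuasiCompact Q.hom] [IsAffine N.left] [IsAffine Q.left] :
    IsAffine G.left := by
  haveI := isAffineHom_left i q hker
  exact isAffine_of_isAffineHom q.left

end Kernel

/-- The preimage of a subgroup under a homomorphism. -/
theorem exists_preimage {H : Over (Spec (CommRingCat.of k))} [GrpObj H] (q : G ⟶ Q) [IsMonHom q]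
    (j : H ⟶ Q) [IsMonHom j] [IsClosedImmersion j.left] :
    ∃ (P : Over (Spec (CommRingCat.of k))) (_ : GrpObj P) (p : P ⟶ G) (r : P ⟶ H), IsMonHom p ∧ IsMonHom r ∧
      IsClosedImmersion p.left ∧ IsPullback p r q j ∧ (AlgGrp.IsNormalHom j → AlgGrp.IsNormalHom p) ∧
      ∀ {N : Over (Spec (CommRingCat.of k))} (i : N ⟶ G), AlgGrp.IsKernel i q →
        ∃ l : N ⟶ P, l ≫ p = i ∧ AlgGrp.IsKernel l r := by
  haveI : Mono j := Over.mono_of_mono_left j
  let P := pullback q j
  let p : P ⟶ G := pullback.fst q j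
  let r : P ⟶ H := pullback.snd q j
  have hsq : IsPullback p r q j := IsPullback.of_hasPullback q j
  haveI : IsClosedImmersion p.left :=
    MorphismProperty.of_isPullback (hsq.map (Over.forget _)).flip ‹IsClosedImmersion j.left›
  haveI : Mono p := Over.mono_of_mono_left p
  have hw : p ≫ q = r ≫ j := hsq.w
  obtain ⟨e, he, he'⟩ := hsq.exists_lift η[G] η[H] (by rw [IsMonHom.one_hom q, IsMonHom.one_hom j])
  obtain ⟨m, hm, hm'⟩ := hsq.exists_lift ((p ⊗ₘ p) ≫ μ[G]) ((r ⊗ₘ r) ≫ μ[H]) (by
    rw [Category.assoc, Category.assoc, IsMonHom.mul_hom q, IsMonHom.mul_hom j,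
      MonoidalCategory.tensorHom_comp_tensorHom_assoc, MonoidalCategory.tensorHom_comp_tensorHom_assoc, hw])
  obtain ⟨v, hv, hv'⟩ := hsq.exists_lift (p ≫ GrpObj.inv) (r ≫ GrpObj.inv) (by
    rw [Category.assoc, Category.assoc, GrpObj.inv_hom q, GrpObj.inv_hom j, reassoc_of% hw])
  letI : GrpObj P := AbRigid.grpObjOfMono p e he m hm v hv
  haveI : IsMonHom p := ⟨he, hm⟩
  haveI : IsMonHom r := ⟨he', hm'⟩
  refine ⟨P, inferInstance, p, r, ‹_›, ‹_›, ‹_›, hsq, fun hn T g x => ?_, fun {N} i hi => ?_⟩
  · obtain ⟨x', hx'⟩ := hn T (g ≫ q) (x ≫ r)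
    obtain ⟨l, hl, -⟩ := hsq.exists_lift (g * (x ≫ p) * g⁻¹) x' (by
      rw [MonObj.mul_comp, MonObj.mul_comp, GrpObj.inv_comp, Category.assoc, hw, ← Category.assoc, hx'])
    exact ⟨l, hl.symm⟩
  · obtain ⟨l, hl, hl'⟩ := hsq.exists_lift i (toUnit N ≫ η[H]) (by
      rw [Category.assoc, IsMonHom.one_hom j]; exact hi.w)
    refine ⟨l, hl, ?_⟩
    refine IsPullback.of_right ?_ hl' hsq
    rw [hl, IsMonHom.one_hom j]
    exact hi

end General

variable {k : Type u} [Field k]

/-- A normal subgroup maps onto a normal subgroup of a quotient. -/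
theorem isNormalHom_image {G Q N H : Over (Spec (CommRingCat.of k))} [GrpObj G] [GrpObj Q] [GrpObj N] [GrpObj H]
    (q : G ⟶ Q) [IsMonHom q] [Surjective q.left] [Flat q.left] [QuasiCompact q.left]
    (i : N ⟶ G) (hi : AlgGrp.IsNormalHom i)
    (j : H ⟶ Q) [Mono j] (g : N ⟶ H) [Surjective g.left] [Flat g.left] [QuasiCompact g.left] (hg : g ≫ j = i ≫ q) :
    AlgGrp.IsNormalHom j := by
  let c : Q ⊗ H ⟶ Q := fst Q H * (snd Q H ≫ j) * (fst Q H)⁻¹
  haveI : Surjective (q ⊗ₘ g).left ∧ Flat (q ⊗ₘ g).left ∧ QuasiCompact (q ⊗ₘ g).left := by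
    rw [MonoidalCategory.tensorHom_def, Over.comp_left]
    have h1 := (AbRigid.isPullback_whiskerRight q N).map (Over.forget _)
    have h2 := (AbRigid.isPullback_whiskerLeft g Q).map (Over.forget _)
    haveI : Surjective (q ▷ N).left := MorphismProperty.of_isPullback h1 ‹Surjective q.left›
    haveI : Flat (q ▷ N).left := MorphismProperty.of_isPullback h1 ‹Flat q.left›
    haveI : QuasiCompact (q ▷ N).left := MorphismProperty.of_isPullback h1 ‹QuasiCompact q.left›
    haveI : Surjective (Q ◁ g).left := MorphismProperty.of_isPullback h2 ‹Surjective g.left›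
    haveI : Flat (Q ◁ g).left := MorphismProperty.of_isPullback h2 ‹Flat g.left›
    haveI : QuasiCompact (Q ◁ g).left := MorphismProperty.of_isPullback h2 ‹QuasiCompact g.left›
    exact ⟨inferInstance, inferInstance, inferInstance⟩
  obtain ⟨hs, hf, hc'⟩ := this
  haveI := hs; haveI := hf; haveI := hc'
  haveI := AlgGrpBasic19.epi_of_cover (q ⊗ₘ g)
  obtain ⟨n', hn'⟩ := hi (G ⊗ N) (fst G N) (snd G N)
  have hc : (q ⊗ₘ g) ≫ c = (n' ≫ g) ≫ j := by
    simp only [c, MonObj.comp_mul, GrpObj.comp_inv, tensorHom_fst, tensorHom_snd_assoc]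
    rw [Category.assoc n', hg, ← Category.assoc n', ← hn', MonObj.mul_comp, MonObj.mul_comp, GrpObj.inv_comp,
      Category.assoc (snd G N) i q]
  obtain ⟨l, hl⟩ := AlgGrpBasic19.exists_desc (q ⊗ₘ g) (n' ≫ g) fun T a b e => by
    rw [← cancel_mono j]
    simp only [Category.assoc] at hc ⊢
    rw [← hc, reassoc_of% e]
  intro T t h
  refine ⟨lift t h ≫ l, ?_⟩
  have hl' : l ≫ j = c := by rw [← cancel_epi (q ⊗ₘ g), reassoc_of% hl, hc, Category.assoc]
  rw [Category.assoc, hl']
  simp only [c, MonObj.comp_mul, GrpObj.comp_inv, lift_fst, lift_snd_assoc]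

/-- The image of a smooth connected affine group. -/
theorem exists_affine_image' {B Q : Over (Spec (CommRingCat.of k))} [GrpObj B] [GrpObj Q] [IsAffine B.left]
    [Smooth B.hom] [ConnectedSpace B.left] [LocallyOfFiniteType Q.hom] [QuasiCompact Q.hom] (f : B ⟶ Q) [IsMonHom f] :
    ∃ (H : Over (Spec (CommRingCat.of k))) (_ : GrpObj H) (j : H ⟶ Q) (g : B ⟶ H), IsMonHom j ∧
      IsClosedImmersion j.left ∧ IsMonHom g ∧ Flat g.left ∧ Surjective g.left ∧ QuasiCompact g.left ∧ g ≫ j = f ∧
      Smooth H.hom ∧ ConnectedSpace H.left ∧ IsAffine H.left := by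
  haveI : QuasiCompact B.hom := inferInstance
  haveI : QuasiCompact f.left := AlgGrpBasic19.quasiCompact_left f
  haveI : IsReduced B.left := OrbitTop19.isReduced_of_smooth B.hom
  obtain ⟨H, _, j, g, hj, hg, hgj, hjc, hker, hgq, hgs⟩ := GrpGen20.exists_image f
  haveI := hj; haveI := hg; haveI := hjc; haveI := hgq; haveI := hgs
  haveI : LocallyOfFiniteType H.hom := by rw [← Over.w j]; infer_instance
  haveI : QuasiCompact H.hom := by rw [← Over.w j]; infer_instance
  haveI : IsReduced H.left := by
    haveI := CurveNF.isReduced_image g.left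
    have hk : g.left.imageι.ker = ⊥ := by
      rw [Scheme.Hom.imageι, Scheme.IdealSheafData.ker_subschemeι]
      exact hker
    haveI : IsIso g.left.imageι := IsClosedImmersion.isIso_iff_ker_eq_bot.mpr hk
    exact isReduced_of_isOpenImmersion (inv g.left.imageι)
  haveI : Flat g.left := AbRigid.flat_of_surjective_of_isReduced B H g
  haveI : Smooth H.hom := AffQuot19.smooth_target B H g
  haveI : ConnectedSpace H.left := g.left.surjective.connectedSpace g.left.continuous
  exact ⟨H, inferInstance, j, g, hj, hjc, hg, inferInstance, hgs, hgq, hgj, inferInstance, inferInstance,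
    AffQuot19.isAffine_target B H g⟩

/-- Two connected affine normal subgroups lie in a third one. -/
theorem exists_join {G N N' : Over (Spec (CommRingCat.of k))} [GrpObj G] [GrpObj N] [GrpObj N']
    [LocallyOfFiniteType G.hom] [QuasiCompact G.hom]
    (i : N ⟶ G) [IsMonHom i] [IsClosedImmersion i.left] [Smooth N.hom] [ConnectedSpace N.left] [IsAffine N.left]
    (hi : AlgGrp.IsNormalHom i)
    (i' : N' ⟶ G) [IsMonHom i'] [IsClosedImmersion i'.left] [Smooth N'.hom] [ConnectedSpace N'.left]
    [IsAffine N'.left] (hi' : AlgGrp.IsNormalHom i') :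
    ∃ (P : Over (Spec (CommRingCat.of k))) (_ : GrpObj P) (p : P ⟶ G), IsMonHom p ∧ IsClosedImmersion p.left ∧
      Smooth P.hom ∧ ConnectedSpace P.left ∧ IsAffine P.left ∧ AlgGrp.IsNormalHom p ∧
      (∃ a : N ⟶ P, a ≫ p = i) ∧ ∃ b : N' ⟶ P, b ≫ p = i' := by
  obtain ⟨Q, _, q, hqm, hqf, hqs, hqq, -, hker, hQl, hQq⟩ := AffPart25.exists_quotient_any i hi
  haveI := hqm; haveI := hqf; haveI := hqs; haveI := hqq; haveI := hQl; haveI := hQq
  obtain ⟨H, _, j, g, hj, hjc, hgm, hgf, hgs, hgq, hgj, hHs, hHc, hHa⟩ := exists_affine_image' (i' ≫ q)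
  haveI := hj; haveI := hjc; haveI := hgf; haveI := hgs; haveI := hgq; haveI := hHs; haveI := hHc; haveI := hHa
  haveI : Mono j := Over.mono_of_mono_left j
  obtain ⟨P, _, p, r, hp, hr, hpc, hsq, hnorm, hkerP⟩ := exists_preimage q j
  haveI := hp; haveI := hr; haveI := hpc
  haveI : Mono p := Over.mono_of_mono_left p
  obtain ⟨l, hl, hlk⟩ := hkerP i hker
  haveI : Flat r.left := MorphismProperty.of_isPullback (hsq.map (Over.forget _)) ‹Flat q.left›
  haveI : Surjective r.left := MorphismProperty.of_isPullback (hsq.map (Over.forget _)) ‹Surjective q.left›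
  haveI : QuasiCompact P.hom := by rw [← Over.w p]; infer_instance
  haveI : LocallyOfFiniteType P.hom := by rw [← Over.w p]; infer_instance
  haveI : QuasiCompact H.hom := inferInstance
  obtain ⟨hPs, hPc⟩ := smooth_connected l r hlk
  obtain ⟨b, hb, -⟩ := hsq.exists_lift i' g hgj.symm
  exact ⟨P, inferInstance, p, hp, hpc, hPs, hPc, isAffine_of_extension l r hlk,
    hnorm (isNormalHom_image q i' hi' j g hgj), ⟨l, hl⟩, b, hb⟩

/-- The dimension of a group of finite type is finite. -/
theorem exists_dim (P : Over (Spec (CommRingCat.of k))) [GrpObj P] [LocallyOfFiniteType P.hom] :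
    ∃ d : ℕ, topologicalKrullDim P.left = (d : WithBot ℕ∞) := by
  let e : P.left := η[P].left (IsLocalRing.closedPoint k)
  haveI : IsLocallyNoetherian P.left := LocallyOfFiniteType.isLocallyNoetherian P.hom
  obtain ⟨b, hb⟩ := ENat.ne_top_iff_exists.1 (DimF18.coheight_ne_top (X := P.left) e)
  exact ⟨VarDim.sdim P.hom e + b, by rw [← GrpCM20.localDim_eq P e, DimF18.localDim_eq P.hom hb.symm]⟩

/-- A closed immersion of a group of no smaller dimension into a connected smooth group is an isomorphism. -/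
theorem isIso_of_dim_le {P N : Over (Spec (CommRingCat.of k))} [GrpObj P] [Smooth P.hom] [ConnectedSpace P.left]
    (f : N ⟶ P) [IsClosedImmersion f.left] (h : topologicalKrullDim P.left ≤ topologicalKrullDim N.left) :
    IsIso f := by
  haveI := AbRigid.geometricallyIrreducible_of_connected P
  haveI : IrreducibleSpace P.left := GeometricallyIrreducible.irreducibleSpace_of_subsingleton P.hom
  haveI : IsReduced P.left := OrbitTop19.isReduced_of_smooth P.hom
  obtain ⟨d, hd⟩ : ∃ d : ℕ, topologicalKrullDim P.left = (d : WithBot ℕ∞) := exists_dim P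
  have hr : Set.range f.left = Set.univ := by
    by_contra hne
    have := TopDimLib.dim_lt_of_closed_ssubset (by rw [hd]; exact fun e => ENat.natCast_ne_top d (WithBot.coe_inj.1 e)) _
      f.left.isClosedEmbedding.isClosed_range hne
    rw [← f.left.isEmbedding.toHomeomorph.isHomeomorph.topologicalKrullDim_eq] at this
    exact absurd h (not_le.2 this)
  haveI : Surjective f.left := ⟨Set.range_eq_univ.1 hr⟩
  haveI := isIso_of_isClosedImmersion_of_surjective f.left
  haveI : IsIso ((Over.forget (Spec (CommRingCat.of k))).map f) := inferInstanceAs (IsIso f.left)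
  exact isIso_of_reflects_iso f (Over.forget _)

/-- The largest connected affine normal subgroup exists. -/
theorem exists_largest (G : Over (Spec (CommRingCat.of k))) [GrpObj G] [LocallyOfFiniteType G.hom] [QuasiCompact G.hom] :
    ∃ (N : Over (Spec (CommRingCat.of k))) (_ : GrpObj N) (i : N ⟶ G), (IsMonHom i ∧ IsClosedImmersion i.left ∧
      Smooth N.hom ∧ ConnectedSpace ↥N.left ∧ IsAffine N.left ∧ AlgGrp.IsNormalHom i) ∧
      ∀ (N' : Over (Spec (CommRingCat.of k))) [GrpObj N'] (i' : N' ⟶ G) [IsMonHom i'] [IsClosedImmersion i'.left]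
        [Smooth N'.hom] [ConnectedSpace ↥N'.left] [IsAffine N'.left], AlgGrp.IsNormalHom i' →
        ∃ f : N' ⟶ N, f ≫ i = i' := by
  classical
  let S : Set ℕ := {d | ∃ (N : Over (Spec (CommRingCat.of k))) (_ : GrpObj N) (i : N ⟶ G),
    (IsMonHom i ∧ IsClosedImmersion i.left ∧ Smooth N.hom ∧ ConnectedSpace ↥N.left ∧ IsAffine N.left ∧
      AlgGrp.IsNormalHom i) ∧ topologicalKrullDim N.left = (d : WithBot ℕ∞)}
  obtain ⟨D, hD⟩ := exists_dim G
  have hbdd : BddAbove S := ⟨D, fun d ⟨N, _, i, ⟨_, hc, _⟩, hd⟩ => by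
    haveI := hc
    have h := i.left.isClosedEmbedding.isInducing.topologicalKrullDim_le
    rw [hd, hD] at h
    exact_mod_cast h⟩
  haveI : IsSeparated G.hom := AbRigid.isSeparated_of_grpObj G
  haveI : IsClosedImmersion η[G].left := isClosedImmersion_of_comp_eq_id G.hom _ (Over.w η[G])
  haveI : Smooth (𝟙_ (Over (Spec (CommRingCat.of k)))).hom := inferInstanceAs (Smooth (𝟙 (Spec (CommRingCat.of k))))
  haveI : IsAffine (𝟙_ (Over (Spec (CommRingCat.of k)))).left := inferInstanceAs (IsAffine (Spec (CommRingCat.of k)))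
  haveI : ConnectedSpace ↥(𝟙_ (Over (Spec (CommRingCat.of k)))).left :=
    inferInstanceAs (ConnectedSpace (Spec (CommRingCat.of k)))
  obtain ⟨d₀, hd₀⟩ := exists_dim (𝟙_ (Over (Spec (CommRingCat.of k))))
  have hne : S.Nonempty := ⟨d₀, _, inferInstance, η[G], ⟨inferInstance, inferInstance, inferInstance, inferInstance,
    inferInstance, fun T g n => ⟨n, by
      rw [toUnit_unique n (toUnit T), show toUnit T ≫ η[G] = 1 from rfl, _root_.mul_one, mul_inv_cancel]⟩⟩, hd₀⟩
  obtain ⟨N, _, i, hprop, hd⟩ := Nat.sSup_mem hne hbdd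
  obtain ⟨hi, hic, hNs, hNc, hNa, hNn⟩ := hprop
  haveI := hi; haveI := hic; haveI := hNs; haveI := hNc; haveI := hNa
  refine ⟨N, inferInstance, i, ⟨hi, hic, hNs, hNc, hNa, hNn⟩, ?_⟩
  intro N' _ i' _ _ _ _ _ hn'
  obtain ⟨P, _, p, hp, hpc, hPs, hPc, hPa, hPn, ⟨a, ha⟩, b, hb⟩ := exists_join i hNn i' hn'
  haveI := hPs; haveI := hPc; haveI := hp; haveI := hpc
  haveI : IsClosedImmersion a.left := by
    haveI : IsClosedImmersion (a.left ≫ p.left) := by rw [← Over.comp_left, ha]; infer_instance
    exact IsClosedImmersion.of_comp a.left p.left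
  obtain ⟨e, he⟩ := exists_dim P
  haveI : IsIso a := isIso_of_dim_le a (by
    rw [he, hd]
    exact_mod_cast le_csSup hbdd ⟨P, _, p, ⟨hp, hpc, hPs, hPc, hPa, hPn⟩, he⟩)
  exact ⟨b ≫ inv a, by rw [← ha, Category.assoc, IsIso.inv_hom_id_assoc, hb]⟩

end Groth.Agent.SepAff15
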