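import Groth.Agent.Lib.SepAff15.Sep
import Groth.Agent.Lib.AttrBorel21.TorusGen
import Groth.Agent.Lib.TorPts21.BaseChangeTorus
import Groth.Agent.Lib.TorPts21.FieldDescent
import Groth.Agent.Lib.BorelLam21.Limit

/-!
# Commutative groups without subtori over a perfect field
-/

set_option autoImplicit false
set_option linter.style.haveILetI false
set_option backward.isDefEq.respectTransparency false
set_option backward.isDefEq.respectTransparency.types false
set_option maxSynthPendingDepth 3
set_option synthInstance.maxHeartbeats 400000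
universe u

open CategoryTheory CategoryTheory.Limits MonoidalCategory CartesianMonoidalCategory MonObj AlgebraicGeometry
open Groth.Agent Groth.Agent.DiagGL Groth.Agent.MTRigid29

noncomputable section

namespace Groth.Agent.SepAff15

variable {k : Type u} [Field k]

/-- A subgroup stable under the twists does not depend on the lift of the base. -/
theorem twist_indep {K : Type u} [Field K] [Algebra k K] [IsSepClosed K] [Algebra.IsSeparable k K]
    {G : Over (Spec (CommRingCat.of k))} [GrpObj G] [IsSeparated G.hom] [LocallyOfFiniteType G.hom]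
    {H : Over (Spec (CommRingCat.of K))} [GrpObj H] [Smooth H.hom]
    (i : H ⟶ Red.bc (Spec.map (CommRingCat.ofHom (algebraMap k K))) G) [IsMonHom i] [IsClosedImmersion i.left]
    (hself : ∀ (T : Spec (CommRingCat.of K) ⟶ Spec (CommRingCat.of K))
      (hT : T ≫ Spec.map (CommRingCat.ofHom (algebraMap k K)) = Spec.map (CommRingCat.ofHom (algebraMap k K))),
      ∃ f, f ≫ i = twist i hT)
    (hred : IsReduced (pullback (Spec.map (CommRingCat.ofHom (algebraMap k K)))
      (Spec.map (CommRingCat.ofHom (algebraMap k K)))))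
    {Z : Over (Spec (CommRingCat.of K))}
    (p : (Over.map (Spec.map (CommRingCat.ofHom (algebraMap k K)))).obj Z ⟶
      (Over.map (Spec.map (CommRingCat.ofHom (algebraMap k K)))).obj H) :
    ∃ y : Z ⟶ H, fl (Spec.map (CommRingCat.ofHom (algebraMap k K))) G (y ≫ i) =
      p ≫ fl (Spec.map (CommRingCat.ofHom (algebraMap k K))) G i := by
  let π := Spec.map (CommRingCat.ofHom (algebraMap k K))
  let P := pullback π π
  let p₁ : P ⟶ Spec (CommRingCat.of K) := pullback.fst π π
  let p₂ : P ⟶ Spec (CommRingCat.of K) := pullback.snd π π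
  let r : P ⟶ Spec (CommRingCat.of k) := p₁ ≫ π
  haveI : IsReduced P := hred
  have h₂ : p₂ ≫ π = r := pullback.condition.symm
  have h₁ : p₁ ≫ π = r := rfl
  haveI : IsIso (compIso h₁ G).inv.left := inferInstanceAs (IsIso ((Over.forget _).map (compIso h₁ G).inv))
  haveI : IsClosedImmersion ((Over.pullback p₁).map i).left := FrobSub19.isClosedImmersion_map p₁ i ‹_›
  haveI : Smooth (Red.bc p₂ H).hom := inferInstanceAs (Smooth (pullback.snd H.hom p₂))
  haveI : IsReduced (Red.bc p₂ H).left := AlgSpDescent.isReduced_of_smooth (Red.bc p₂ H).hom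
  let t₂ := twist i h₂ ≫ (compIso h₁ G).inv
  have hsub : Set.range t₂.left ⊆ Set.range ((Over.pullback p₁).map i).left := by
    rintro _ ⟨x, rfl⟩
    let M := (Red.bc p₂ H).left.residueField x
    let e : Spec M ⟶ (Red.bc p₂ H).left := (Red.bc p₂ H).left.fromSpecResidueField x
    let m : Spec M ⟶ P := e ≫ (Red.bc p₂ H).hom
    obtain ⟨φ₁, hφ₁⟩ := Spec.map_surjective (m ≫ p₁)
    obtain ⟨φ₂, hφ₂⟩ := Spec.map_surjective (m ≫ p₂)
    obtain ⟨τ, hτ, hτk⟩ := exists_endo (k := k) φ₁.hom φ₂.hom (by
      have h : CommRingCat.ofHom (algebraMap k K) ≫ φ₁ = CommRingCat.ofHom (algebraMap k K) ≫ φ₂ :=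
        Spec.map_injective (by
          rw [Spec.map_comp, Spec.map_comp, hφ₁, hφ₂, Category.assoc, Category.assoc]
          exact congrArg (m ≫ ·) pullback.condition)
      exact congrArg CommRingCat.Hom.hom h)
    let T : Spec (CommRingCat.of K) ⟶ Spec (CommRingCat.of K) := Spec.map (CommRingCat.ofHom τ)
    have hT : T ≫ π = π := by
      rw [← Spec.map_comp]
      exact congrArg (fun f => Spec.map (CommRingCat.ofHom f)) hτk
    have hm : (m ≫ p₁) ≫ T = m ≫ p₂ := by
      rw [← hφ₁, ← hφ₂, ← Spec.map_comp]
      exact congrArg Spec.map (CommRingCat.hom_ext hτ)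
    obtain ⟨f, hf⟩ := hself T hT
    have he : (e ≫ pullback.fst H.hom p₂) ≫ H.hom = (m ≫ p₁) ≫ T := by
      rw [Category.assoc, pullback.condition, ← Category.assoc, hm]
      rfl
    let h : Over.mk (m ≫ p₁) ⟶ Red.bc T H :=
      Over.homMk (pullback.lift (e ≫ pullback.fst H.hom p₂) (m ≫ p₁) he) (pullback.lift_snd _ _ _)
    have hw : (h ≫ f).left ≫ H.hom = m ≫ p₁ := Over.w (h ≫ f)
    let w : Spec M ⟶ (Red.bc p₁ H).left := pullback.lift (h ≫ f).left m hw
    have hwe : w ≫ ((Over.pullback p₁).map i).left = e ≫ t₂.left := by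
      rw [← cancel_mono (compIso h₁ G).hom.left]
      have hc : t₂.left ≫ (compIso h₁ G).hom.left = (twist i h₂).left := by
        rw [← Over.comp_left, Category.assoc, Iso.inv_hom_id, Category.comp_id]
      rw [Category.assoc, Category.assoc, hc]
      change w ≫ (twist i h₁).left = e ≫ (twist i h₂).left
      refine pullback.hom_ext ?_ ?_
      · rw [Category.assoc, Category.assoc, twist_left_fst, twist_left_fst, pullback.lift_fst_assoc]
        have hfl : f.left ≫ i.left = (twist i hT).left := congrArg CommaMorphism.left hf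
        rw [Over.comp_left, Category.assoc, reassoc_of% hfl, twist_left_fst]
        simp only [h, Over.homMk_left, pullback.lift_fst_assoc, Category.assoc]
      · rw [Category.assoc, Category.assoc, show (twist i h₁).left ≫ pullback.snd G.hom r = pullback.snd H.hom p₁ from
          Over.w (twist i h₁), show (twist i h₂).left ≫ pullback.snd G.hom r = pullback.snd H.hom p₂ from
          Over.w (twist i h₂), pullback.lift_snd]
        rfl
    refine ⟨w (IsLocalRing.closedPoint M), ?_⟩
    rw [← Scheme.Hom.comp_apply, hwe, Scheme.Hom.comp_apply]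
    exact congrArg t₂.left (Scheme.fromSpecResidueField_apply x _)
  obtain ⟨l, hl⟩ := RedSepLib.exists_lift_of_range_subset t₂.left ((Over.pullback p₁).map i).left hsub
  let c : Red.bc p₂ H ⟶ Red.bc p₁ H :=
    Over.homMk l (by rw [← Over.w ((Over.pullback p₁).map i), reassoc_of% hl]; exact Over.w t₂)
  have hc : c ≫ (Over.pullback p₁).map i = t₂ := Over.OverMorphism.ext hl
  let m : Z.left ⟶ P := pullback.lift Z.hom (p.left ≫ H.hom) ((Over.w p).symm.trans (Category.assoc _ _ _).symm)
  let W : Over P := Over.mk m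
  let h : W ⟶ Red.bc p₂ H := Over.homMk (pullback.lift p.left m (pullback.lift_snd _ _ _).symm) (pullback.lift_snd _ _ _)
  have hW : m ≫ p₁ = Z.hom := pullback.lift_fst _ _ _
  refine ⟨Over.homMk ((h ≫ c).left ≫ pullback.fst H.hom p₁) ?_, ?_⟩
  · rw [Category.assoc, pullback.condition, ← Category.assoc, show (h ≫ c).left ≫ pullback.snd H.hom p₁ = m from Over.w (h ≫ c), hW]
  · have h4 : h ≫ c ≫ twist i h₁ = h ≫ twist i h₂ := by
      rw [show twist i h₁ = (Over.pullback p₁).map i ≫ (compIso h₁ G).hom from rfl, ← Category.assoc c, hc,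
        Category.assoc, Iso.inv_hom_id, Category.comp_id]
    have h5 := congrArg (fun w => w.left ≫ pullback.fst G.hom r) h4
    simp only [Over.comp_left, Category.assoc, twist_left_fst] at h5
    ext1
    simp only [Over.comp_left, MTRigid29.fl_left, Over.map_obj_left] at h5 ⊢
    simpa [h] using h5

/-- A commutative group without subtori over a perfect field has none over the algebraic closure. -/
theorem hasNoSubtorus_algClosure_comm [PerfectField k] (U : Over (Spec (CommRingCat.of k))) [GrpObj U]
    [IsCommMonObj U] [IsAffine U.left] [Smooth U.hom] [ConnectedSpace U.left] (hU : Red.HasNoSubtorus k U) :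
    Red.HasNoSubtorus (AlgebraicClosure k)
      (Red.bc (Spec.map (CommRingCat.ofHom (algebraMap k (AlgebraicClosure k)))) U) := by
  let K := AlgebraicClosure k
  let π := Spec.map (CommRingCat.ofHom (algebraMap k K))
  haveI : IsSeparated U.hom := inferInstance
  haveI : IsAffine (Red.bc π U).left := BorelFix21.isAffine_bc π U
  haveI : Smooth (Red.bc π U).hom := BorelFix21.smooth_bc π U
  haveI : ConnectedSpace (Red.bc π U).left := BorelFix21.connectedSpace_bc π U
  obtain ⟨S, _, iS, him, himn, hST, hmax⟩ := TorPts21.exists_maxTorus (Red.bc π U)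
  haveI := him
  haveI := himn
  obtain ⟨hSa, hSs, hSc, -⟩ := TorPts21.props_of_isTorus hST
  haveI := hSa; haveI := hSs; haveI := hSc
  haveI : IsClosedImmersion iS.left := TorPts21.isClosedImmersion_of_torus hST iS
  -- every subtorus lies in the maximal one
  have hbig : ∀ (T : Over (Spec (CommRingCat.of K))) [GrpObj T] (j : T ⟶ Red.bc π U) [IsMonHom j],
      Red.IsTorus T → ∃ f : T ⟶ S, f ≫ iS = j := fun T _ j _ hT => by
    obtain ⟨Q, _, m, f₁, f₂, hm, hmm, hQ, h₁, h₂⟩ := AttrBorel21.exists_torus_ge_of_commute hT hST j iS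
      (fun X x y => mul_comm _ _)
    haveI := hm; haveI := hmm
    haveI := hmax Q m f₂ hQ h₂
    exact ⟨f₁ ≫ inv f₂, by rw [Category.assoc, ← h₂, IsIso.inv_hom_id_assoc, h₁]⟩
  haveI : Algebra.IsSeparable k K := inferInstance
  haveI : Surjective π := ⟨fun z => ⟨IsLocalRing.closedPoint _, Subsingleton.elim (α := PrimeSpectrum k) _ _⟩⟩
  haveI : Flat π := inferInstance
  haveI : IsAffineHom S.hom := inferInstance
  have hred : IsReduced (pullback π π) := by
    haveI : Algebra.IsGeometricallyReduced k K := isGeometricallyReduced_of_isSeparable k K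
    haveI : _root_.IsReduced (TensorProduct k K K) := GeomRed21.isReduced_tensor_field K K
    exact isReduced_of_isOpenImmersion (pullbackSpecIso k K K).hom
  have hcov : ∀ V : (Spec (CommRingCat.of k)).Opens, IsAffineOpen V →
      ∃ W : (Spec (CommRingCat.of K)).Opens, IsCompact (W : Set (Spec (CommRingCat.of K))) ∧
        π.base '' (W : Set (Spec (CommRingCat.of K))) = (V : Set _) := fun V hV =>
    ⟨π ⁻¹ᵁ V, π.isCompact_preimage hV.isCompact, Set.image_preimage_eq _ π.surjective⟩
  have hself : ∀ (T : Spec (CommRingCat.of K) ⟶ Spec (CommRingCat.of K)) (hT : T ≫ π = π),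
      ∃ f, f ≫ iS = twist iS hT := fun T hT => by
    haveI := isMonHom_twist iS hT
    exact hbig (Red.bc T S) (twist iS hT) (TorPts21.isTorus_bc T hST)
  obtain ⟨A, _, a, ha, haI, φ, hφ⟩ :=
    AffPart25.exists_descent iS (fun p => twist_indep iS hself hred p) hcov
  haveI := ha
  haveI := haI
  haveI : IsIso φ.hom.left := (inferInstance : IsIso ((Over.forget _).map φ.hom))
  haveI : IsMonHom φ.hom := TorsorSch25.isMonHom_of_points φ.hom fun T x y => (cancel_mono iS).1 (by
    rw [Category.assoc, hφ, MonObj.mul_comp x y, MonObj.mul_comp (x ≫ φ.hom), Category.assoc, Category.assoc, hφ, ← MonObj.mul_comp])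
  haveI : Smooth (Red.bc π A).hom := by rw [← Over.w φ.hom]; infer_instance
  haveI : ConnectedSpace (Red.bc π A).left :=
    φ.hom.left.homeomorph.symm.surjective.connectedSpace φ.hom.left.homeomorph.symm.continuous
  have hAT : Red.IsTorus A := TorPts21.isTorus_of_bc π (BorelLam21.isTorus_of_closed hST φ.hom)
  haveI : Mono a := Over.mono_of_mono_left a
  haveI hAh : IsIso A.hom := hU A a hAT
  haveI : IsIso S.hom := by
    haveI : IsIso (Red.bc π A).hom := inferInstanceAs (IsIso (pullback.snd A.hom π))
    haveI : IsIso (φ.hom.left ≫ S.hom) := by rw [Over.w]; infer_instance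
    exact IsIso.of_isIso_comp_left φ.hom.left S.hom
  intro T _ j _ _ hT
  obtain ⟨f, hf⟩ := hbig T j hT
  have h1 : 𝟙 T = toUnit T ≫ η[T] := by
    rw [← cancel_mono j, Category.id_comp, Category.assoc, IsMonHom.one_hom j, ← hf]
    have : f = toUnit T ≫ η[S] := Over.OverMorphism.ext (by rw [← cancel_mono S.hom, Over.w, Over.w])
    rw [this, Category.assoc, IsMonHom.one_hom]
  exact ⟨η[T].left, (congrArg CommaMorphism.left h1).symm, Over.w η[T]⟩

end Groth.Agent.SepAff15
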