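import Groth.Agent.Lib.SepAff15.Largest
import Groth.Agent.Lib.SubSpec19.Regular
import Groth.Agent.Lib.SubSpec19.Field
import Groth.Agent.Lib.GeomRed21.Algebra
import Mathlib.FieldTheory.IsSepClosed
import Mathlib.RingTheory.Unramified.Field
import Mathlib.RingTheory.Nilpotent.GeometricallyReduced

/-!
# The largest connected affine normal subgroup commutes with separable extensions
-/

set_option autoImplicit false
set_option linter.style.haveILetI false
set_option backward.isDefEq.respectTransparency false
set_option backward.isDefEq.respectTransparency.types false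
set_option maxSynthPendingDepth 3
set_option synthInstance.maxHeartbeats 400000
universe u

open CategoryTheory CategoryTheory.Limits MonoidalCategory CartesianMonoidalCategory MonObj AlgebraicGeometry
open Groth.Agent Groth.Agent.DiagGL Groth.Agent.MTRigid29

noncomputable section

namespace Groth.Agent.SepAff15

/-- Two embeddings of a separable closure over the base differ by an endomorphism. -/
theorem exists_endo {k K M : Type u} [Field k] [Field K] [Field M] [Algebra k K] [IsSepClosed K]
    [Algebra.IsSeparable k K] (φ₁ φ₂ : K →+* M) (h : φ₁.comp (algebraMap k K) = φ₂.comp (algebraMap k K)) :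
    ∃ τ : K →+* K, φ₁.comp τ = φ₂ ∧ τ.comp (algebraMap k K) = algebraMap k K := by
  letI : Algebra k M := (φ₁.comp (algebraMap k K)).toAlgebra
  let f₁ : K →ₐ[k] M := { φ₁ with commutes' := fun _ => rfl }
  let f₂ : K →ₐ[k] M := { φ₂ with commutes' := fun a => (DFunLike.congr_fun h a).symm }
  have hmem : ∀ b, ∃ a, f₁ a = f₂ b := fun b => by
    have hs : ((minpoly k b).map (algebraMap k K)).Splits :=
      IsSepClosed.splits_codomain _ (Algebra.IsSeparable.isSeparable k b)
    have hne : minpoly k b ≠ 0 := minpoly.ne_zero (Algebra.IsSeparable.isIntegral k b)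
    have hb : f₂ b ∈ (minpoly k b).rootSet M :=
      Polynomial.mem_rootSet.2 ⟨hne, by rw [Polynomial.aeval_algHom_apply, minpoly.aeval, map_zero]⟩
    rw [← hs.image_rootSet f₁] at hb
    obtain ⟨a, -, ha⟩ := hb
    exact ⟨a, ha⟩
  choose τ hτ' using hmem
  have hτ : ∀ b, φ₁ (τ b) = φ₂ b := hτ'
  let T : K →+* K :=
    { toFun := τ
      map_one' := φ₁.injective (by simp [hτ])
      map_mul' := fun x y => φ₁.injective (by simp [hτ])
      map_zero' := φ₁.injective (by simp [hτ])
      map_add' := fun x y => φ₁.injective (by simp [hτ]) }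
  refine ⟨T, RingHom.ext hτ, RingHom.ext fun x => φ₁.injective ?_⟩
  show φ₁ (τ (algebraMap k K x)) = φ₁ (algebraMap k K x)
  rw [hτ]
  exact (DFunLike.congr_fun h x).symm

/-- Separable algebraic extensions are geometrically reduced. -/
theorem isGeometricallyReduced_of_isSeparable (k K : Type u) [Field k] [Field K] [Algebra k K]
    [Algebra.IsSeparable k K] : Algebra.IsGeometricallyReduced k K := by
  refine Algebra.IsGeometricallyReduced.of_forall_fg fun B hB => (Algebra.isGeometricallyReduced_field_iff k B).2 ?_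
  letI : Field B := (Subalgebra.isField_of_algebraic B).toField
  haveI : Algebra.IsSeparable k B := Algebra.isSeparable_tower_bot_of_isSeparable k B K
  haveI : Algebra.FiniteType k B := (Subalgebra.fg_iff_finiteType B).1 hB
  haveI : Algebra.EssFiniteType k B := inferInstance
  haveI : Algebra.FormallyUnramified k B := Algebra.FormallyUnramified.of_isSeparable k B
  exact Algebra.FormallyUnramified.isReduced_of_field (AlgebraicClosure k) _

/-- Factorisations through a monomorphism descend along covers. -/
theorem exists_factor_of_bc {S S' : Scheme.{u}} (π : S' ⟶ S) [Flat π] [Surjective π] [QuasiCompact π]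
    {X A G : Over S} (c : X ⟶ G) (l : A ⟶ G) [Mono l] (m : Red.bc π X ⟶ Red.bc π A)
    (hm : m ≫ (Over.pullback π).map l = (Over.pullback π).map c) : ∃ d : X ⟶ A, d ≫ l = c := by
  let X' := (Over.map π).obj (Red.bc π X)
  let pr : X' ⟶ X := fl π X (𝟙 _)
  have hpr : pr.left = pullback.fst X.hom π := by
    rw [show pr = fl π X (𝟙 _) from rfl, MTRigid29.fl_left]
    exact Category.id_comp _
  haveI : Flat pr.left := hpr ▸ MorphismProperty.pullback_fst _ _ ‹Flat π›
  haveI : Surjective pr.left := hpr ▸ MorphismProperty.pullback_fst _ _ ‹Surjective π›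
  haveI : QuasiCompact pr.left := hpr ▸ MorphismProperty.pullback_fst _ _ ‹QuasiCompact π›
  have h1 : fl π A m ≫ l = pr ≫ c := by
    ext1
    have h2 := congrArg (fun w => w.left ≫ pullback.fst G.hom π) hm
    simp only [Over.comp_left, Category.assoc] at h2
    simp only [Over.comp_left, hpr, MTRigid29.fl_left, Category.assoc]
    simpa using h2
  obtain ⟨d, hd⟩ := AlgGrpBasic19.exists_desc pr (fl π A m) fun T a b e => by
    rw [← cancel_mono l, Category.assoc, Category.assoc, h1, reassoc_of% e]
  haveI := AlgGrpBasic19.epi_of_cover pr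
  exact ⟨d, by rw [← cancel_epi pr, reassoc_of% hd, h1]⟩

/-- Normality of a subgroup descends along covers. -/
theorem isNormalHom_of_bc' {S S' : Scheme.{u}} (π : S' ⟶ S) [Flat π] [Surjective π] [QuasiCompact π]
    {G H : Over S} [GrpObj G] [GrpObj H] (j : H ⟶ G) [Mono j]
    {H' : Over S'} [GrpObj H'] (i : H' ⟶ Red.bc π G) (hi : AlgGrp.IsNormalHom i)
    (φ : Red.bc π H ≅ H') (hφ : φ.hom ≫ i = (Over.pullback π).map j) : AlgGrp.IsNormalHom j := by
  let F := Over.pullback π
  let c : G ⊗ H ⟶ G := fst G H * (snd G H ≫ j) * (fst G H)⁻¹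
  obtain ⟨n', hn'⟩ := hi (F.obj (G ⊗ H)) (F.map (fst G H)) (F.map (snd G H) ≫ φ.hom)
  have hc : (n' ≫ φ.inv) ≫ F.map j = F.map c := by
    rw [← hφ, Category.assoc, φ.inv_hom_id_assoc, ← hn', Category.assoc, hφ]
    simp only [c, Functor.map_mul, Functor.map_inv', Functor.map_comp]
    rfl
  obtain ⟨d, hd⟩ := exists_factor_of_bc π c j (n' ≫ φ.inv) hc
  intro T t h
  refine ⟨lift t h ≫ d, ?_⟩
  rw [Category.assoc, hd]
  simp only [c, MonObj.comp_mul, GrpObj.comp_inv, lift_fst, lift_snd_assoc]

variable {k : Type u} [Field k]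

/-- The largest connected affine normal subgroup over a separable closure does not depend on the lift of the base. -/
theorem affine_indep' {K : Type u} [Field K] [Algebra k K] [IsSepClosed K] [Algebra.IsSeparable k K]
    {G : Over (Spec (CommRingCat.of k))} [GrpObj G] [IsSeparated G.hom] [LocallyOfFiniteType G.hom]
    {H : Over (Spec (CommRingCat.of K))} [GrpObj H] [Smooth H.hom] [ConnectedSpace H.left] [IsAffine H.left]
    (i : H ⟶ Red.bc (Spec.map (CommRingCat.ofHom (algebraMap k K))) G) [IsMonHom i] [IsClosedImmersion i.left]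
    (hi : AlgGrp.IsNormalHom i)
    (hmax : ∀ (N : Over (Spec (CommRingCat.of K))) [GrpObj N]
      (i' : N ⟶ Red.bc (Spec.map (CommRingCat.ofHom (algebraMap k K))) G) [IsMonHom i'] [IsClosedImmersion i'.left]
      [Smooth N.hom] [ConnectedSpace ↥N.left] [IsAffine N.left], AlgGrp.IsNormalHom i' → ∃ f : N ⟶ H, f ≫ i = i')
    (hred : IsReduced (pullback (Spec.map (CommRingCat.ofHom (algebraMap k K)))
      (Spec.map (CommRingCat.ofHom (algebraMap k K)))))
    {Z : Over (Spec (CommRingCat.of K))}
    (p : (Over.map (Spec.map (CommRingCat.ofHom (algebraMap k K)))).obj Z ⟶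
      (Over.map (Spec.map (CommRingCat.ofHom (algebraMap k K)))).obj H) :
    ∃ y : Z ⟶ H, fl (Spec.map (CommRingCat.ofHom (algebraMap k K))) G (y ≫ i) =
      p ≫ fl (Spec.map (CommRingCat.ofHom (algebraMap k K))) G i := by
  let π := Spec.map (CommRingCat.ofHom (algebraMap k K))
  let P := pullback π π
  let p₁ : P ⟶ Spec (CommRingCat.of K) := pullback.fst π π
  let p₂ : P ⟶ Spec (CommRingCat.of K) := pullback.snd π π
  let r : P ⟶ Spec (CommRingCat.of k) := p₁ ≫ π
  haveI : IsReduced P := hred
  have h₂ : p₂ ≫ π = r := pullback.condition.symm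
  have h₁ : p₁ ≫ π = r := rfl
  haveI : IsIso (compIso h₁ G).inv.left := inferInstanceAs (IsIso ((Over.forget _).map (compIso h₁ G).inv))
  haveI : IsClosedImmersion ((Over.pullback p₁).map i).left := FrobSub19.isClosedImmersion_map p₁ i ‹_›
  haveI : Smooth (Red.bc p₂ H).hom := inferInstanceAs (Smooth (pullback.snd H.hom p₂))
  haveI : IsReduced (Red.bc p₂ H).left := AlgSpDescent.isReduced_of_smooth (Red.bc p₂ H).hom
  let t₂ := twist i h₂ ≫ (compIso h₁ G).inv
  have hsub : Set.range t₂.left ⊆ Set.range ((Over.pullback p₁).map i).left := by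
    rintro _ ⟨x, rfl⟩
    let M := (Red.bc p₂ H).left.residueField x
    let e : Spec M ⟶ (Red.bc p₂ H).left := (Red.bc p₂ H).left.fromSpecResidueField x
    let m : Spec M ⟶ P := e ≫ (Red.bc p₂ H).hom
    obtain ⟨φ₁, hφ₁⟩ := Spec.map_surjective (m ≫ p₁)
    obtain ⟨φ₂, hφ₂⟩ := Spec.map_surjective (m ≫ p₂)
    obtain ⟨τ, hτ, hτk⟩ := exists_endo (k := k) φ₁.hom φ₂.hom (by
      have h : CommRingCat.ofHom (algebraMap k K) ≫ φ₁ = CommRingCat.ofHom (algebraMap k K) ≫ φ₂ :=
        Spec.map_injective (by
          rw [Spec.map_comp, Spec.map_comp, hφ₁, hφ₂, Category.assoc, Category.assoc]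
          exact congrArg (m ≫ ·) pullback.condition)
      exact congrArg CommRingCat.Hom.hom h)
    let T : Spec (CommRingCat.of K) ⟶ Spec (CommRingCat.of K) := Spec.map (CommRingCat.ofHom τ)
    have hT : T ≫ π = π := by
      rw [← Spec.map_comp]
      exact congrArg (fun f => Spec.map (CommRingCat.ofHom f)) hτk
    have hm : (m ≫ p₁) ≫ T = m ≫ p₂ := by
      rw [← hφ₁, ← hφ₂, ← Spec.map_comp]
      exact congrArg Spec.map (CommRingCat.hom_ext hτ)
    haveI : IsMonHom (compIso hT G).hom := isMonHom_compIso hT G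
    haveI : IsIso (compIso hT G).hom.left := inferInstanceAs (IsIso ((Over.forget _).map (compIso hT G).hom))
    haveI : IsMonHom (twist i hT) := isMonHom_twist i hT
    haveI : IsClosedImmersion ((Over.pullback T).map i).left := FrobSub19.isClosedImmersion_map T i ‹_›
    haveI : IsClosedImmersion (twist i hT).left :=
      inferInstanceAs (IsClosedImmersion (((Over.pullback T).map i).left ≫ (compIso hT G).hom.left))
    haveI : Smooth (Red.bc T H).hom := BorelFix21.smooth_bc T H
    haveI : IsAffine (Red.bc T H).left := BorelFix21.isAffine_bc T H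
    haveI : ConnectedSpace (Red.bc T H).left := BorelFix21.connectedSpace_bc T H
    obtain ⟨f, hf⟩ := hmax (Red.bc T H) (twist i hT)
      (SubSpec19.normal_comp_iso (SubSpec19.normal_bc T hi) (compIso hT G).hom)
    have he : (e ≫ pullback.fst H.hom p₂) ≫ H.hom = (m ≫ p₁) ≫ T := by
      rw [Category.assoc, pullback.condition, ← Category.assoc, hm]
      rfl
    let h : Over.mk (m ≫ p₁) ⟶ Red.bc T H :=
      Over.homMk (pullback.lift (e ≫ pullback.fst H.hom p₂) (m ≫ p₁) he) (pullback.lift_snd _ _ _)
    have hw : (h ≫ f).left ≫ H.hom = m ≫ p₁ := Over.w (h ≫ f)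
    let w : Spec M ⟶ (Red.bc p₁ H).left := pullback.lift (h ≫ f).left m hw
    have hwe : w ≫ ((Over.pullback p₁).map i).left = e ≫ t₂.left := by
      rw [← cancel_mono (compIso h₁ G).hom.left]
      have hc : t₂.left ≫ (compIso h₁ G).hom.left = (twist i h₂).left := by
        rw [← Over.comp_left, Category.assoc, Iso.inv_hom_id, Category.comp_id]
      rw [Category.assoc, Category.assoc, hc]
      change w ≫ (twist i h₁).left = e ≫ (twist i h₂).left
      refine pullback.hom_ext ?_ ?_
      · rw [Category.assoc, Category.assoc, twist_left_fst, twist_left_fst, pullback.lift_fst_assoc]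
        have hfl : f.left ≫ i.left = (twist i hT).left := congrArg CommaMorphism.left hf
        rw [Over.comp_left, Category.assoc, reassoc_of% hfl, twist_left_fst]
        simp only [h, Over.homMk_left, pullback.lift_fst_assoc, Category.assoc]
      · rw [Category.assoc, Category.assoc, show (twist i h₁).left ≫ pullback.snd G.hom r = pullback.snd H.hom p₁ from
          Over.w (twist i h₁), show (twist i h₂).left ≫ pullback.snd G.hom r = pullback.snd H.hom p₂ from
          Over.w (twist i h₂), pullback.lift_snd]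
        rfl
    refine ⟨w (IsLocalRing.closedPoint M), ?_⟩
    rw [← Scheme.Hom.comp_apply, hwe, Scheme.Hom.comp_apply]
    exact congrArg t₂.left (Scheme.fromSpecResidueField_apply x _)
  obtain ⟨l, hl⟩ := RedSepLib.exists_lift_of_range_subset t₂.left ((Over.pullback p₁).map i).left hsub
  let c : Red.bc p₂ H ⟶ Red.bc p₁ H :=
    Over.homMk l (by rw [← Over.w ((Over.pullback p₁).map i), reassoc_of% hl]; exact Over.w t₂)
  have hc : c ≫ (Over.pullback p₁).map i = t₂ := Over.OverMorphism.ext hl
  let m : Z.left ⟶ P := pullback.lift Z.hom (p.left ≫ H.hom) ((Over.w p).symm.trans (Category.assoc _ _ _).symm)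
  let W : Over P := Over.mk m
  let h : W ⟶ Red.bc p₂ H := Over.homMk (pullback.lift p.left m (pullback.lift_snd _ _ _).symm) (pullback.lift_snd _ _ _)
  have hW : m ≫ p₁ = Z.hom := pullback.lift_fst _ _ _
  refine ⟨Over.homMk ((h ≫ c).left ≫ pullback.fst H.hom p₁) ?_, ?_⟩
  · rw [Category.assoc, pullback.condition, ← Category.assoc, show (h ≫ c).left ≫ pullback.snd H.hom p₁ = m from Over.w (h ≫ c), hW]
  · have h4 : h ≫ c ≫ twist i h₁ = h ≫ twist i h₂ := by
      rw [show twist i h₁ = (Over.pullback p₁).map i ≫ (compIso h₁ G).hom from rfl, ← Category.assoc c, hc,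
        Category.assoc, Iso.inv_hom_id, Category.comp_id]
    have h5 := congrArg (fun w => w.left ≫ pullback.fst G.hom r) h4
    simp only [Over.comp_left, Category.assoc, twist_left_fst] at h5
    ext1
    simp only [Over.comp_left, MTRigid29.fl_left, Over.map_obj_left] at h5 ⊢
    simpa [h] using h5

/-- The largest connected affine normal subgroup commutes with separable extensions. -/
theorem largest_baseChange (G : Over (Spec (CommRingCat.of k))) [GrpObj G] [LocallyOfFiniteType G.hom]
    [QuasiCompact G.hom] {L : Over (Spec (CommRingCat.of k))} (l : L ⟶ G)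
    (hLmax : ∀ (L' : Over (Spec (CommRingCat.of k))) [GrpObj L'] (l' : L' ⟶ G) [IsMonHom l'] [IsClosedImmersion l'.left]
      [Smooth L'.hom] [ConnectedSpace ↥L'.left] [IsAffine L'.left], AlgGrp.IsNormalHom l' → ∃ f : L' ⟶ L, f ≫ l = l')
    [IsClosedImmersion l.left] {k' : Type u} [Field k'] [Algebra k k'] [Algebra.IsSeparable k k']
    (L' : Over (Spec (CommRingCat.of k'))) [GrpObj L'] (l' : L' ⟶ Red.bc (Spec.map (CommRingCat.ofHom (algebraMap k k'))) G)
    [IsMonHom l'] [IsClosedImmersion l'.left] [Smooth L'.hom] [ConnectedSpace L'.left] [IsAffine L'.left]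
    (hn : AlgGrp.IsNormalHom l') :
    ∃ f : L' ⟶ Red.bc (Spec.map (CommRingCat.ofHom (algebraMap k k'))) L,
      f ≫ (Over.pullback (Spec.map (CommRingCat.ofHom (algebraMap k k')))).map l = l' := by
  let K := SeparableClosure k
  let emb : k' →ₐ[k] K := IsSepClosed.lift
  let π := Spec.map (CommRingCat.ofHom (algebraMap k K))
  let π' := Spec.map (CommRingCat.ofHom (algebraMap k k'))
  let ψ := Spec.map (CommRingCat.ofHom emb.toRingHom)
  have hψ : ψ ≫ π' = π := by
    rw [← Spec.map_comp]
    exact congrArg (fun f => Spec.map (CommRingCat.ofHom f)) emb.comp_algebraMap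
  haveI : IsSeparated G.hom := AbRigid.isSeparated_of_grpObj G
  haveI : LocallyOfFiniteType (Red.bc π G).hom := inferInstanceAs (LocallyOfFiniteType (pullback.snd G.hom π))
  haveI : QuasiCompact (Red.bc π G).hom := inferInstanceAs (QuasiCompact (pullback.snd G.hom π))
  obtain ⟨H, _, i, ⟨him, hic, hHs, hHc, hHa, hHn⟩, hmax⟩ := exists_largest (Red.bc π G)
  haveI := him; haveI := hic; haveI := hHs; haveI := hHc; haveI := hHa
  haveI : Surjective π := ⟨fun z => ⟨IsLocalRing.closedPoint _, Subsingleton.elim (α := PrimeSpectrum k) _ _⟩⟩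
  haveI : Flat π := inferInstance
  haveI : IsAffineHom H.hom := inferInstance
  have hred : IsReduced (pullback π π) := by
    haveI : Algebra.IsGeometricallyReduced k K := isGeometricallyReduced_of_isSeparable k K
    haveI : _root_.IsReduced (TensorProduct k K K) := GeomRed21.isReduced_tensor_field K K
    exact isReduced_of_isOpenImmersion (pullbackSpecIso k K K).hom
  have hcov : ∀ V : (Spec (CommRingCat.of k)).Opens, IsAffineOpen V →
      ∃ W : (Spec (CommRingCat.of K)).Opens, IsCompact (W : Set (Spec (CommRingCat.of K))) ∧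
        π.base '' (W : Set (Spec (CommRingCat.of K))) = (V : Set _) := fun V hV =>
    ⟨π ⁻¹ᵁ V, π.isCompact_preimage hV.isCompact, Set.image_preimage_eq _ π.surjective⟩
  obtain ⟨A, _, a, ha, -, φ, hφ⟩ := AffPart25.exists_descent i (fun p => affine_indep' i hHn hmax hred p) hcov
  haveI := ha
  haveI : IsIso φ.hom.left := (inferInstance : IsIso ((Over.forget _).map φ.hom))
  haveI hac' : IsClosedImmersion ((Over.pullback π).map a).left := by
    rw [← hφ, Over.comp_left]
    infer_instance
  haveI : IsClosedImmersion a.left := by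
    haveI := @FpqcDesc.descendsAlong_isClosedImmersion.{u}
    exact MorphismProperty.of_isPullback_of_descendsAlong (P := @IsClosedImmersion)
      (Q := @Surjective ⊓ @Flat ⊓ @QuasiCompact) (MTRigid29.isPullback_map_left π a).flip
      ⟨⟨inferInstance, inferInstance⟩, inferInstance⟩ hac'
  haveI : Smooth A.hom := MorphismProperty.of_pullback_snd_of_descendsAlong (P := @Smooth)
    (Q := @Surjective ⊓ @Flat ⊓ @QuasiCompact) ⟨⟨inferInstance, inferInstance⟩, inferInstance⟩
    (f := A.hom) (g := π) (by
      show Smooth (Red.bc π A).hom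
      rw [← Over.w φ.hom]; infer_instance)
  haveI : IsAffine A.left := by
    haveI := FpqcDesc.descendsAlong_isAffineHom.{u}
    haveI : IsAffineHom A.hom := MorphismProperty.of_pullback_snd_of_descendsAlong (P := @IsAffineHom)
      (Q := @Surjective ⊓ @Flat ⊓ @QuasiCompact) ⟨⟨inferInstance, inferInstance⟩, inferInstance⟩
      (f := A.hom) (g := π) (by
        show IsAffineHom (Red.bc π A).hom
        rw [← Over.w φ.hom]; infer_instance)
    exact isAffine_of_isAffineHom A.hom
  haveI : ConnectedSpace A.left := TorPts21.connectedSpace_of_bc π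
    (φ.hom.left.homeomorph.symm.surjective.connectedSpace φ.hom.left.homeomorph.symm.continuous)
  haveI : Mono a := Over.mono_of_mono_left a
  obtain ⟨g, hg⟩ := hLmax A a (isNormalHom_of_bc' π a i hHn φ hφ)
  -- the given subgroup over the separable closure
  haveI : IsMonHom (twist l' hψ) := isMonHom_twist l' hψ
  haveI : IsMonHom (compIso hψ G).hom := isMonHom_compIso hψ G
  haveI : IsIso (compIso hψ G).hom.left := inferInstanceAs (IsIso ((Over.forget _).map (compIso hψ G).hom))
  haveI : IsClosedImmersion ((Over.pullback ψ).map l').left := FrobSub19.isClosedImmersion_map ψ l' ‹_›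
  haveI : IsClosedImmersion (twist l' hψ).left :=
    inferInstanceAs (IsClosedImmersion (((Over.pullback ψ).map l').left ≫ (compIso hψ G).hom.left))
  haveI : Smooth (Red.bc ψ L').hom := BorelFix21.smooth_bc ψ L'
  haveI : IsAffine (Red.bc ψ L').left := BorelFix21.isAffine_bc ψ L'
  haveI : ConnectedSpace (Red.bc ψ L').left := BorelFix21.connectedSpace_bc ψ L'
  obtain ⟨v, hv⟩ := hmax (Red.bc ψ L') (twist l' hψ)
    (SubSpec19.normal_comp_iso (SubSpec19.normal_bc ψ hn) (compIso hψ G).hom)
  let w : Red.bc ψ L' ⟶ Red.bc ψ (Red.bc π' L) :=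
    (v ≫ φ.inv ≫ (Over.pullback π).map g) ≫ (compIso hψ L).inv
  have hnat : (Over.pullback ψ).map ((Over.pullback π').map l) ≫ (compIso hψ G).hom =
      (compIso hψ L).hom ≫ (Over.pullback π).map l := by
    ext1
    refine pullback.hom_ext ?_ ?_ <;> simp [compIso, pullback.congrHom_hom]
  have hw : w ≫ (Over.pullback ψ).map ((Over.pullback π').map l) = (Over.pullback ψ).map l' := by
    rw [← cancel_mono (compIso hψ G).hom, Category.assoc, hnat, ← twist, ← hv]
    simp only [w, Category.assoc, Iso.inv_hom_id_assoc]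
    rw [← Functor.map_comp, hg, ← hφ, Iso.inv_hom_id_assoc]
  haveI : Mono l := Over.mono_of_mono_left l
  haveI : Mono ((Over.pullback π').map l) := inferInstance
  haveI : Surjective ψ := ⟨fun z => ⟨IsLocalRing.closedPoint _, Subsingleton.elim (α := PrimeSpectrum k') _ _⟩⟩
  haveI : Flat ψ := inferInstance
  exact exists_factor_of_bc ψ l' ((Over.pullback π').map l) w hw

end Groth.Agent.SepAff15
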